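import Groth.Agent.RedQuotAff.Main
import Groth.Agent.TrigQuot.Solvable
import Groth.Agent.RedQuot.Killed
import Groth.Agent.UniRad.NonConn
import Groth.Agent.Chev.MaxTorusImage
import Groth.Agent.Chev.Exponent
import Groth.Agent.Chev.BorelTools
import Groth.Agent.RedCent.Reductive
import Groth.Agent.Takeuchi.Quot
import Groth.Agent.FlatMor.ReducedDescent
import Groth.Agent.GModLib.ObsSolv
import Groth.Agent.GModLib.OfComod
import Groth.Agent.S3279
import Groth.Agent.MonoFactor.Points

/-!
Quotients `L/H` with `R_u H ⊆ R_u L` are affine.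
-/

set_option autoImplicit false
set_option backward.isDefEq.respectTransparency false
set_option maxHeartbeats 1000000
set_option synthInstance.maxHeartbeats 200000
set_option linter.unusedSectionVars false
set_option linter.style.haveILetI false

universe u

open CategoryTheory CategoryTheory.Limits MonoidalCategory CartesianMonoidalCategory MonObj GrpObj AlgebraicGeometry
open Groth.Agent.MonoFactor (mul_smul' one_smul' comp_orbitMap)

noncomputable section

namespace Groth.Agent.RedQuotAff

section Formal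

variable {S : Scheme.{u}}

/-- an orbit map is invariant under the stabiliser -/
theorem mul_orbit_inv {G H X : Over S} [GrpObj G] {i : H ⟶ G} {π : G ⟶ X}
    (hw : fst G H ≫ π = ((G ◁ i) ≫ μ[G]) ≫ π) {T : Over S} (g : T ⟶ G) (h : T ⟶ H) :
    (g * (h ≫ i)) ≫ π = g ≫ π := by
  have e : lift g h ≫ (G ◁ i) ≫ μ[G] = g * (h ≫ i) := by rw [lift_whiskerLeft_assoc, Hom.mul_def]
  rw [← e, Category.assoc, ← hw, lift_fst_assoc]

/-- points in one fibre of an orbit map differ by the stabiliser -/
theorem exists_eq_mul {G H X : Over S} [GrpObj G] {i : H ⟶ G} {π : G ⟶ X}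
    (hpb : IsPullback (fst G H) ((G ◁ i) ≫ μ[G]) π π) {T : Over S} (g g' : T ⟶ G) (e : g ≫ π = g' ≫ π) :
    ∃ h : T ⟶ H, g' = g * (h ≫ i) := by
  refine ⟨hpb.lift g g' e ≫ snd G H, ?_⟩
  have e1 : lift g (hpb.lift g g' e ≫ snd G H) = hpb.lift g g' e := by
    apply CartesianMonoidalCategory.hom_ext
    · rw [lift_fst, hpb.lift_fst]
    · rw [lift_snd]
  rw [Hom.mul_def, ← lift_whiskerLeft_assoc, e1, hpb.lift_snd]

/-- the action on a fibre of an equivariant map, over the base of the orbit map -/
theorem isPullback_fibre {L G' X X' F : Over S} [GrpObj L] [GrpObj G'] (a : AlgGrp.Action L X)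
    (a' : AlgGrp.Action G' X') (q : L ⟶ G') [IsMonHom q] (o' : 𝟙_ (Over S) ⟶ X') (f : X ⟶ X')
    (heq : ∀ (T : Over S) (g : T ⟶ L) (x : T ⟶ X),
      (lift g x ≫ a.act) ≫ f = lift (g ≫ q) (x ≫ f) ≫ a'.act)
    (iF : F ⟶ X) (hF : IsPullback iF (toUnit F) f o') :
    IsPullback (fst L F) ((L ◁ iF) ≫ a.act) (q ≫ a'.orbitMap o') f := by
  haveI : Mono iF := ⟨fun {T} x y e => hF.hom_ext e (toUnit_unique _ _)⟩
  have hF' : ∀ {T : Over S} (y : T ⟶ F), y ≫ iF ≫ f = toUnit T ≫ o' := fun y => by
    rw [hF.w, ← Category.assoc, toUnit_unique (y ≫ toUnit F) (toUnit _)]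
  have hz : ∀ {T : Over S} (z : T ⟶ L ⊗ F),
      z ≫ (L ◁ iF) ≫ a.act = lift (z ≫ fst L F) ((z ≫ snd L F) ≫ iF) ≫ a.act := by
    intro T z
    rw [← Category.assoc]
    congr 1
    apply CartesianMonoidalCategory.hom_ext
    · rw [Category.assoc, whiskerLeft_fst, lift_fst]
    · rw [Category.assoc, whiskerLeft_snd, lift_snd, Category.assoc]
  refine IsPullback.mk' ?_ (fun T p p' h1 h2 => ?_) (fun T g x h => ?_)
  · rw [← Category.id_comp ((L ◁ iF) ≫ a.act), hz, heq, Category.assoc _ iF f, hF', Category.id_comp,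
      ← comp_orbitMap, Category.assoc]
  · apply CartesianMonoidalCategory.hom_ext
    · exact h1
    · rw [hz, hz, h1] at h2
      have h3 := congrArg (fun w => lift (p' ≫ fst L F)⁻¹ w ≫ a.act) h2
      simp only [← mul_smul', inv_mul_cancel, one_smul'] at h3
      exact (cancel_mono iF).1 h3
  · let y : T ⟶ X := lift g⁻¹ x ≫ a.act
    have hy : y ≫ f = toUnit T ≫ o' := by
      show (lift g⁻¹ x ≫ a.act) ≫ f = _
      rw [heq, ← h, GrpObj.inv_comp, ← Category.assoc g, comp_orbitMap, ← mul_smul', inv_mul_cancel, one_smul']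
    refine ⟨lift g (hF.lift y (toUnit T) hy), lift_fst _ _, ?_⟩
    rw [hz, lift_fst, lift_snd, hF.lift_fst]
    show lift g (lift g⁻¹ x ≫ a.act) ≫ a.act = x
    rw [← mul_smul', mul_inv_cancel, one_smul']

/-- a subgroup killed by `q` acts on the fibres -/
theorem exists_action_fibre {U L G' X X' F : Over S} [GrpObj U] [GrpObj L] [GrpObj G'] (a : AlgGrp.Action L X)
    (a' : AlgGrp.Action G' X') (q : L ⟶ G') (u : U ⟶ L) [IsMonHom u] (hu : u ≫ q = 1)
    (o' : 𝟙_ (Over S) ⟶ X') (f : X ⟶ X')
    (heq : ∀ (T : Over S) (g : T ⟶ L) (x : T ⟶ X),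
      (lift g x ≫ a.act) ≫ f = lift (g ≫ q) (x ≫ f) ≫ a'.act)
    (iF : F ⟶ X) (hF : IsPullback iF (toUnit F) f o') :
    ∃ b : AlgGrp.Action U F, b.act ≫ iF = (U ◁ iF) ≫ (u ▷ X) ≫ a.act := by
  haveI : Mono iF := ⟨fun {T} x y e => hF.hom_ext e (toUnit_unique _ _)⟩
  have hw : ((U ◁ iF) ≫ (u ▷ X) ≫ a.act) ≫ f = toUnit (U ⊗ F) ≫ o' := by
    have e1 : (U ◁ iF) ≫ (u ▷ X) ≫ a.act = lift (fst U F ≫ u) (snd U F ≫ iF) ≫ a.act := by
      rw [← Category.assoc]
      congr 1
      apply CartesianMonoidalCategory.hom_ext <;> simp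
    rw [e1, heq, Category.assoc, hu, MonObj.comp_one, one_smul', Category.assoc, hF.w, ← Category.assoc,
      toUnit_unique (snd U F ≫ toUnit F) (toUnit _)]
  let act := hF.lift _ (toUnit (U ⊗ F)) hw
  have hact : act ≫ iF = (U ◁ iF) ≫ (u ▷ X) ≫ a.act := hF.lift_fst _ _ _
  let b : AlgGrp.Action U X := a.restrict u
  have hb : b.act = (u ▷ X) ≫ a.act := rfl
  rw [← hb] at hact
  exact ⟨{ act := act
           one_act := by
            rw [← cancel_mono iF, Category.assoc, hact, ← whisker_exchange_assoc, b.one_act, leftUnitor_naturality]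
           mul_act := by
            rw [← cancel_mono iF, Category.assoc, hact, ← whisker_exchange_assoc, b.mul_act,
              Category.assoc, Category.assoc, hact, associator_naturality_right_assoc,
              ← MonoidalCategory.whiskerLeft_comp_assoc, ← hact, MonoidalCategory.whiskerLeft_comp_assoc, hact] },
    hact⟩

end Formal

variable {k : Type u} [Field k] [IsAlgClosed k]

open Groth.Agent.Chev (RP)
open Groth.Agent.Chev.Borel (exists_rp_of_mem_range)

/-- **quotients with unipotent radical inside the unipotent radical are affine** -/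
theorem isAffine_of_radical_le {L H UL UH : Over (Spec (CommRingCat.of k))} [GrpObj L] [IsAffine L.left] [Smooth L.hom]
    [GrpObj H] [Smooth H.hom] [GrpObj UL] [GrpObj UH] (i : H ⟶ L) [IsMonHom i] [IsClosedImmersion i.left]
    (uL : UL ⟶ L) (hUL : Par.IsUnipotentRadical uL) (uH : UH ⟶ H) (hUH : Par.IsUnipotentRadical uH)
    (f₀ : UH ⟶ UL) (hf₀ : f₀ ≫ uL = uH ≫ i) (thmA : VecGrp.ReductiveInvariantsFG k)
    (thmAbi : AGF.ReductiveQuotSurj k) (thmAbiv : AGF.ReductiveQuotSeparates k)
    {X : Over (Spec (CommRingCat.of k))} (a : AlgGrp.Action L X) (o : 𝟙_ (Over (Spec (CommRingCat.of k))) ⟶ X)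
    (hX : AGF.IsQuotient i X a o) : IsAffine X.left := by
  obtain ⟨hlft, hflat, hsurj, hpb⟩ := hX
  haveI := hlft; haveI := hflat; haveI := hsurj
  haveI : Subsingleton ↥(Spec (CommRingCat.of k)) := inferInstanceAs (Subsingleton (PrimeSpectrum k))
  haveI : IsAffineHom L.hom := isAffineHom_of_isAffine _
  haveI : IsReduced L.left := SmoothRed.isReduced_of_smooth_scheme L.hom
  haveI : IsAffine H.left := isAffine_of_isAffineHom i.left
  haveI : IsAffineHom H.hom := isAffineHom_of_isAffine _
  haveI : IsReduced H.left := SmoothRed.isReduced_of_smooth_scheme H.hom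
  -- the unipotent radical
  obtain ⟨hum, huc, hun, hus, -, hufib, -⟩ := id hUL
  haveI := hum; haveI := huc; haveI := hus
  haveI : IsAffine UL.left := isAffine_of_isAffineHom uL.left
  obtain ⟨hUc, hUt⟩ := (UniRad.geomFibre_unipotent_iff UL (IsLocalRing.closedPoint k)).1 (hufib _)
  haveI := hUc
  -- the quotient by it
  obtain ⟨G', _, q, hqm, hG'a, hG'l, hqf, hqs, hker⟩ := Takeuchi.exists_affine_quotient L UL uL hun
  haveI := hqm; haveI := hG'a; haveI := hG'l; haveI := hqf; haveI := hqs
  haveI : IsAffineHom G'.hom := isAffineHom_of_isAffine _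
  haveI : IsReduced G'.left := FlatMor.isReduced_of_flat_surjective q.left
  haveI : GeometricallyReduced G'.hom := Rigid.geometricallyReduced_of_perfect G'.hom
  haveI : Smooth G'.hom := AVEuler.smooth_of_geometricallyReduced G'
  have hkill : uL ≫ q = 1 := by rw [hker.w]; rfl
  -- the image of the subgroup
  haveI : QuasiCompact (i ≫ q).left := by
    haveI : QuasiCompact ((i ≫ q).left ≫ G'.hom) := by rw [Over.w]; infer_instance
    exact QuasiCompact.of_comp _ G'.hom
  obtain ⟨H', _, ii, p, hiim, hpm, hpi, hiic, hpd, hpq, hps⟩ := GrpField.SchImg.exists_image (i ≫ q)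
  haveI := hiim; haveI := hpm; haveI := hiic; haveI := hpd; haveI := hpq; haveI := hps
  haveI : IsAffine H'.left := isAffine_of_isAffineHom ii.left
  haveI : IsAffineHom H'.hom := isAffineHom_of_isAffine _
  haveI : LocallyOfFiniteType H'.hom := by rw [← Over.w ii]; infer_instance
  haveI := GrpField.SchImg.geometricallyReduced_of_smooth H.hom
  haveI := GrpField.SchImg.geometricallyReduced_of_schDom p
  haveI : Smooth H'.hom := AVEuler.smooth_of_geometricallyReduced H'
  haveI : IsReduced H'.left := SmoothRed.isReduced_of_smooth_scheme H'.hom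
  haveI : Mono ii := Over.mono_of_mono_left ii
  haveI : Mono uL := Over.mono_of_mono_left uL
  -- it is reductive
  have hred : VecGrp.IsReductiveGrp k H' := by
    obtain ⟨H₀, _, j₀, hj₀m, hj₀o, -, hH₀s, hH₀c⟩ := GModLib.exists_open_connected H
    haveI := hj₀m; haveI := hj₀o; haveI := hH₀s; haveI := hH₀c
    obtain ⟨H₁, _, j₁, hj₁m, hj₁o, -, hH₁s, hH₁c⟩ := GModLib.exists_open_connected H'
    haveI := hj₁m; haveI := hj₁o; haveI := hH₁s; haveI := hH₁c
    haveI := RedOpen.isClosedImmersion_openSub j₀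
    haveI := RedOpen.isClosedImmersion_openSub j₁
    haveI : IsAffine H₀.left := isAffine_of_isAffineHom j₀.left
    haveI : IsAffine H₁.left := isAffine_of_isAffineHom j₁.left
    haveI : IsAffineHom H₀.hom := isAffineHom_of_isAffine _
    haveI : IsAffineHom H₁.hom := isAffineHom_of_isAffine _
    haveI : Mono j₁ := Over.mono_of_mono_left j₁
    obtain ⟨p₀, hp₀, hp₀m⟩ := UniRad.exists_factor_conn_hom j₁ (j₀ ≫ p)
    haveI := hp₀m
    haveI : Flat p.left := GrpField.flat_of_surjective_reduced (f := p)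
    haveI : IsSeparated H₁.hom := inferInstance
    haveI : Surjective p₀.left := by
      haveI : LocallyOfFiniteType (p.left ≫ H'.hom) := by rw [Over.w p]; infer_instance
      haveI : LocallyOfFiniteType p.left := locallyOfFiniteType_of_comp p.left H'.hom
      haveI : IsLocallyNoetherian H'.left := LocallyOfFiniteType.isLocallyNoetherian H'.hom
      haveI : LocallyOfFinitePresentation p.left := inferInstance
      have hopen : IsOpen (Set.range p₀.left) := by
        have h1 : Set.range p₀.left = j₁.left ⁻¹' (p.left '' Set.range j₀.left) := by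
          have h2 : ∀ x, j₁.left (p₀.left x) = p.left (j₀.left x) := fun x => by
            rw [← Scheme.Hom.comp_apply, ← Over.comp_left, hp₀, Over.comp_left, Scheme.Hom.comp_apply]
          ext y
          constructor
          · rintro ⟨x, rfl⟩
            exact ⟨_, ⟨x, rfl⟩, (h2 x).symm⟩
          · rintro ⟨_, ⟨x, rfl⟩, hx⟩
            exact ⟨x, j₁.left.isOpenEmbedding.injective ((h2 x).trans hx)⟩
        rw [h1]
        exact (p.left.isOpenMap _ j₀.left.isOpenEmbedding.isOpen_range).preimage j₁.left.continuous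
      have hsub := GrpField.isSubgroupSet_range p₀
      exact ⟨Set.range_eq_univ.1 ((IsClopen.eq_univ ⟨hsub.isClosed_of_isOpen hopen, hopen⟩)
        ⟨_, η[H₀].left (IsLocalRing.closedPoint k), rfl⟩)⟩
    obtain ⟨W, _, w, hw, hWc, hWt, hWn, hWi, -⟩ := UniRad.exists_radical_of_open j₀
    obtain ⟨hwm, hwc, -, hws, -⟩ := id hw
    haveI := hwm; haveI := hwc; haveI := hws; haveI := hWc; haveI := hWi
    haveI : IsAffine W.left := isAffine_of_isAffineHom w.left
    obtain ⟨r, hr⟩ := UniRad.exists_le_radical hUH (w ≫ j₀) hWn hWt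
    refine ⟨inferInstance, inferInstance, H₁, inferInstance, j₁, inferInstance, inferInstance,
      RedQuot.isReductiveOver_of_radical_killed p₀ hw ?_⟩
    rw [← cancel_mono j₁, ← cancel_mono ii, Category.assoc, Category.assoc, MonObj.one_comp, MonObj.one_comp,
      reassoc_of% hp₀, hpi, ← Category.assoc, ← hr, Category.assoc, reassoc_of% hf₀.symm, hkill,
      MonObj.comp_one, MonObj.comp_one]
  -- its quotient
  obtain ⟨X', a', o', hX'l, hX'q, hX'f, hX's, hpb'⟩ := Groth.Agent.S3279.result k G' H' ii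
  haveI := hX'l; haveI := hX'f; haveI := hX's
  haveI : IsAffine X'.left := by
    obtain ⟨c⟩ := GModLib.exists_coords G' H' ii
    exact isAffine_quot c hred thmA thmAbi thmAbiv a' o' ⟨hX'l, hX'f, hX's, hpb'⟩
  haveI : IsAffineHom X'.hom := isAffineHom_of_isAffine _
  let π := a.orbitMap o
  let π' := a'.orbitMap o'
  haveI : QuasiCompact π.left := by
    haveI : QuasiCompact (π.left ≫ X.hom) := by rw [Over.w]; infer_instance
    haveI : IsLocallyNoetherian X.left := LocallyOfFiniteType.isLocallyNoetherian X.hom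
    exact QuasiCompact.of_comp π.left X.hom
  haveI : Flat π.left := hflat
  haveI : Surjective π.left := hsurj
  let c : L ⟶ X' := q ≫ π'
  haveI : Flat c.left := inferInstanceAs (Flat (q.left ≫ π'.left))
  haveI : Surjective c.left := inferInstanceAs (Surjective (q.left ≫ π'.left))
  haveI : QuasiCompact c.left := by
    haveI : QuasiCompact (c.left ≫ X'.hom) := by rw [Over.w]; infer_instance
    exact QuasiCompact.of_comp c.left X'.hom
  obtain ⟨d, hd⟩ := WeilAff.exists_desc_of_points π c fun B _ _ g g' e => by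
    obtain ⟨h, rfl⟩ := exists_eq_mul hpb g g' e
    show g ≫ q ≫ π' = _ ≫ q ≫ π'
    rw [← Category.assoc, ← Category.assoc, MonObj.mul_comp, Category.assoc h i q, ← hpi, ← Category.assoc h p ii,
      mul_orbit_inv hpb'.w]
  let f : X ⟶ X' := Over.homMk d (by
    rw [← cancel_epi π.left, ← Category.assoc, hd, Over.w]
    exact (Over.w π).symm)
  have hf : π ≫ f = c := Over.OverMorphism.ext hd
  haveI : Flat (L ◁ π).left := MorphismProperty.pullback_map (P := @Flat)
    (inferInstanceAs (Flat (𝟙 L.left))) ‹_› (Category.id_comp _).symm (Over.w π).symm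
  haveI : Surjective (L ◁ π).left := MorphismProperty.pullback_map (P := @Surjective)
    (inferInstanceAs (Surjective (𝟙 L.left))) ‹_› (Category.id_comp _).symm (Over.w π).symm
  haveI : QuasiCompact (L ◁ π).left := MorphismProperty.pullback_map (P := @QuasiCompact)
    (inferInstanceAs (QuasiCompact (𝟙 L.left))) ‹_› (Category.id_comp _).symm (Over.w π).symm
  haveI : Epi (L ◁ π) := Over.epi_of_epi_left _
  have hact : a.act ≫ f = (q ⊗ₘ f) ≫ a'.act := by
    rw [← cancel_epi (L ◁ π)]
    have e1 : (L ◁ π) ≫ a.act = (fst L L * snd L L) ≫ π := by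
      rw [show π = a.orbitMap o from rfl, comp_orbitMap, mul_smul', ← comp_orbitMap]
      congr 1
    have e2 : (L ◁ π) ≫ (q ⊗ₘ f) = lift (fst L L ≫ q) ((snd L L ≫ q) ≫ π') := by
      apply CartesianMonoidalCategory.hom_ext
      · simp
      · simp only [Category.assoc, tensorHom_snd, whiskerLeft_snd_assoc, lift_snd]
        rw [hf]
    rw [reassoc_of% e1, reassoc_of% e2, hf]
    show (fst L L * snd L L) ≫ q ≫ π' = _
    rw [← Category.assoc, MonObj.mul_comp, show π' = a'.orbitMap o' from rfl, comp_orbitMap, mul_smul',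
      ← comp_orbitMap, Category.assoc]
  have heq : ∀ (T : Over (Spec (CommRingCat.of k))) (g : T ⟶ L) (x : T ⟶ X),
      (lift g x ≫ a.act) ≫ f = lift (g ≫ q) (x ≫ f) ≫ a'.act := fun T g x => by
    rw [Category.assoc, hact, lift_map_assoc]
  -- the fibre
  let F := pullback f o'
  let iF : F ⟶ X := pullback.fst f o'
  have hF : IsPullback iF (toUnit F) f o' := by
    have h := IsPullback.of_hasPullback f o'
    rwa [toUnit_unique (toUnit F) (pullback.snd f o')]
  haveI : IsClosedImmersion o'.left := isClosedImmersion_of_comp_eq_id X'.hom o'.left (Over.w o')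
  haveI : IsClosedImmersion iF.left :=
    MorphismProperty.of_isPullback (P := @IsClosedImmersion) (hF.map (Over.forget _)).flip ‹_›
  haveI : Mono iF := Over.mono_of_mono_left iF
  haveI : LocallyOfFiniteType F.hom := by rw [← Over.w iF]; infer_instance
  obtain ⟨b, hb⟩ := exists_action_fibre a a' q uL hkill o' f heq iF hF
  have hof : o ≫ f = o' := by
    have h1 : η[L] ≫ π = o := by
      rw [show π = a.orbitMap o from rfl, comp_orbitMap, ← Category.id_comp (toUnit _ ≫ o),
        show (η[L] : 𝟙_ _ ⟶ L) = 1 by rw [Hom.one_def, toUnit_unique (toUnit _) (𝟙 _), Category.id_comp],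
        one_smul', Category.id_comp, toUnit_unique (toUnit _) (𝟙 _), Category.id_comp]
    rw [← h1, Category.assoc, hf]
    show η[L] ≫ q ≫ π' = _
    rw [← Category.assoc, IsMonHom.one_hom q, show π' = a'.orbitMap o' from rfl, comp_orbitMap,
      show (η[G'] : 𝟙_ _ ⟶ G') = 1 by rw [Hom.one_def, toUnit_unique (toUnit _) (𝟙 _), Category.id_comp],
      one_smul', toUnit_unique (toUnit _) (𝟙 _), Category.id_comp]
  let oF : 𝟙_ (Over (Spec (CommRingCat.of k))) ⟶ F := hF.lift o (𝟙 _) (by rw [Category.id_comp, hof])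
  have hborb : ∀ {T : Over (Spec (CommRingCat.of k))} (v : T ⟶ UL),
      (v ≫ b.orbitMap oF) ≫ iF = (v ≫ uL) ≫ π := by
    intro T v
    rw [comp_orbitMap, Category.assoc, hb, lift_whiskerLeft_assoc, lift_whiskerRight_assoc, Category.assoc,
      hF.lift_fst, show π = a.orbitMap o from rfl, comp_orbitMap]
  haveI : Surjective (b.orbitMap oF).left := by
    haveI : IsAffineHom UL.hom := isAffineHom_of_isAffine _
    haveI : IsLocallyNoetherian F.left := LocallyOfFiniteType.isLocallyNoetherian F.hom
    haveI : JacobsonSpace F.left := LocallyOfFiniteType.jacobsonSpace F.hom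
    haveI : CompactSpace X.left :=
      ⟨by rw [← π.left.surjective.range_eq]; exact isCompact_range π.left.continuous⟩
    haveI : CompactSpace F.left := iF.left.isClosedEmbedding.compactSpace
    haveI : LocallyOfFiniteType ((b.orbitMap oF).left ≫ F.hom) := by rw [Over.w]; infer_instance
    haveI : LocallyOfFiniteType (b.orbitMap oF).left := locallyOfFiniteType_of_comp _ F.hom
    haveI : QuasiCompact (b.orbitMap oF).left := by
      haveI : QuasiCompact ((b.orbitMap oF).left ≫ F.hom) := by rw [Over.w]; infer_instance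
      exact QuasiCompact.of_comp _ F.hom
    refine MonoFactor.surjective_of_closedPoints _ fun y hy => ?_
    obtain ⟨z, rfl⟩ := Groth.Agent.SubGen.exists_rpt hy
    suffices h : ∃ v : RP UL, v ≫ b.orbitMap oF = z by
      obtain ⟨v, rfl⟩ := h
      exact ⟨_, Groth.Agent.SubGen.map_rpt _ v⟩
    · obtain ⟨g, hg⟩ := exists_rp_of_mem_range π (z ≫ iF) (π.left.surjective _)
      have h1 : (g ≫ q) ≫ π' = (1 : RP G') ≫ π' := by
        rw [Category.assoc, ← show π ≫ f = q ≫ π' from hf, ← Category.assoc, hg, Category.assoc, hF.w,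
          ← Category.assoc, show π' = a'.orbitMap o' from rfl, comp_orbitMap, one_smul']
        congr 1
        exact toUnit_unique _ _
      obtain ⟨h', hh'⟩ := exists_eq_mul hpb' (1 : RP G') (g ≫ q) h1.symm
      rw [_root_.one_mul] at hh'
      obtain ⟨h, hh⟩ := exists_rp_of_mem_range p h' (p.left.surjective _)
      let v : RP L := g * (h ≫ i)⁻¹
      have hv : v ≫ q = toUnit _ ≫ η[G'] := by
        rw [MonObj.mul_comp, GrpObj.inv_comp, Category.assoc h i q, ← hpi, ← Category.assoc h p ii, hh, hh',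
          mul_inv_cancel, Hom.one_def]
      refine ⟨hker.lift v (toUnit _) hv, (cancel_mono iF).1 ?_⟩
      rw [hborb, hker.lift_fst, ← hg, ← mul_orbit_inv hpb.w v h]
      congr 1
      exact inv_mul_cancel_right g (h ≫ i)
  haveI : IsAffineHom UL.hom := isAffineHom_of_isAffine _
  haveI : Group.IsSolvable (RP UL) := RedCent.isSolvable_of_noSubtorus hUt
  haveI : IsAffine F.left := TrigQuot.isAffine_of_isSolvable (Chev.Borel.isSolvableGrp_of_rp UL) b oF
  haveI : IsAffineHom F.hom := isAffineHom_of_isAffine _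
  -- descent
  have sq := isPullback_fibre a a' q o' f heq iF hF
  haveI : IsAffineHom (fst L F).left := inferInstanceAs (IsAffineHom (pullback.fst L.hom F.hom))
  haveI : IsAffineHom f.left :=
    MorphismProperty.of_isPullback_of_descendsAlong (P := @IsAffineHom)
      (Q := @Surjective ⊓ @Flat ⊓ @QuasiCompact) (sq.map (Over.forget _)) ⟨⟨‹_›, ‹_›⟩, ‹_›⟩
      ‹IsAffineHom (fst L F).left›
  exact isAffine_of_isAffineHom f.left

end Groth.Agent.RedQuotAff
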