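import Groth.Agent.GModLib.ObsRed
import Groth.Agent.WeilAff.UnipOrbit
import Groth.Agent.WeilAff.QuotKer
import Groth.Agent.AlgSpLib.LocalTarget
import Groth.Agent.AlgSpLib.PureMono
import Groth.Agent.LimDesc.DescendQF
import Groth.Prelude.Def_AGF
import Mathlib.AlgebraicGeometry.ZariskisMainTheorem
import Mathlib.AlgebraicGeometry.QuasiAffine
import Mathlib.AlgebraicGeometry.Normalization

/-!
Quotients by subgroups with reductive identity component are affine.
-/

set_option autoImplicit false
set_option backward.isDefEq.respectTransparency false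
set_option maxHeartbeats 1000000
set_option synthInstance.maxHeartbeats 200000
set_option linter.unusedSectionVars false
set_option linter.style.haveILetI false

universe u

open CategoryTheory CategoryTheory.Limits MonoidalCategory CartesianMonoidalCategory MonObj GrpObj AlgebraicGeometry
open TensorProduct WithConv

noncomputable section

namespace Groth.Agent.RedQuotAff

variable {k : Type u} [Field k]

/-- quotients by closed subgroups are separated -/
theorem isSeparated_quot {G H X : Over (Spec (CommRingCat.of k))} [GrpObj G] [GrpObj H] [IsAffine G.left]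
    [LocallyOfFiniteType G.hom] (i : H ⟶ G) [IsClosedImmersion i.left] [LocallyOfFiniteType X.hom]
    (a : AlgGrp.Action G X) (o : 𝟙_ (Over (Spec (CommRingCat.of k))) ⟶ X)
    [Flat (a.orbitMap o).left] [Surjective (a.orbitMap o).left]
    (hpb : IsPullback (fst G H) ((G ◁ i) ≫ μ[G]) (a.orbitMap o) (a.orbitMap o)) : IsSeparated X.hom := by
  haveI : IsLocallyNoetherian X.left := LocallyOfFiniteType.isLocallyNoetherian X.hom
  haveI : IsAffineHom G.hom := isAffineHom_of_isAffine _
  haveI : QuasiCompact (a.orbitMap o).left := by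
    haveI : QuasiCompact ((a.orbitMap o).left ≫ X.hom) := by rw [Over.w]; infer_instance
    exact QuasiCompact.of_comp (a.orbitMap o).left X.hom
  let π := a.orbitMap o
  let P := π ⊗ₘ π
  haveI : Flat P.left := MorphismProperty.pullback_map (P := @Flat) ‹_› ‹_› (Over.w π).symm (Over.w π).symm
  haveI : Surjective P.left := MorphismProperty.pullback_map (P := @Surjective) ‹_› ‹_› (Over.w π).symm (Over.w π).symm
  haveI : QuasiCompact P.left := MorphismProperty.pullback_map (P := @QuasiCompact) ‹_› ‹_› (Over.w π).symm (Over.w π).symm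
  let δ : X ⟶ X ⊗ X := lift (𝟙 X) (𝟙 X)
  let sh : G ⊗ G ≅ G ⊗ G :=
    { hom := lift (fst G G) μ[G]
      inv := lift (fst G G) ((fst G G)⁻¹ * snd G G)
      hom_inv_id := by
        apply CartesianMonoidalCategory.hom_ext
        · rw [Category.assoc, lift_fst, lift_fst, Category.id_comp]
        · rw [Category.assoc, lift_snd, MonObj.comp_mul, GrpObj.comp_inv, lift_fst, lift_snd, Category.id_comp,
            show μ[G] = fst G G * snd G G by rw [Hom.mul_def, lift_fst_snd, Category.id_comp], inv_mul_cancel_left]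
      inv_hom_id := by
        apply CartesianMonoidalCategory.hom_ext
        · rw [Category.assoc, lift_fst, lift_fst, Category.id_comp]
        · rw [Category.assoc, lift_snd, Category.id_comp,
            show μ[G] = fst G G * snd G G by rw [Hom.mul_def, lift_fst_snd, Category.id_comp], MonObj.comp_mul,
            lift_fst, lift_snd, mul_inv_cancel_left] }
  haveI : IsIso sh.hom := sh.isIso_hom
  haveI : IsIso sh.hom.left := inferInstanceAs (IsIso ((Over.forget _).map sh.hom))
  haveI : IsClosedImmersion (G ◁ i).left :=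
    MorphismProperty.pullback_map (P := @IsClosedImmersion) (inferInstanceAs (IsClosedImmersion (𝟙 G.left)))
      ‹IsClosedImmersion i.left› (Category.id_comp _).symm (Over.w i).symm
  obtain ⟨v, hvf, hvs, hvc⟩ : ∃ v : G ⊗ H ⟶ G ⊗ G, v ≫ fst G G = fst G H ∧ v ≫ snd G G = (G ◁ i) ≫ μ[G] ∧
      IsClosedImmersion v.left := by
    refine ⟨(G ◁ i) ≫ sh.hom, ?_, ?_, by rw [Over.comp_left]; infer_instance⟩
    · show ((G ◁ i) ≫ lift (fst G G) μ[G]) ≫ fst G G = _
      rw [Category.assoc, lift_fst, whiskerLeft_fst]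
    · show ((G ◁ i) ≫ lift (fst G G) μ[G]) ≫ snd G G = _
      rw [Category.assoc, lift_snd]
  have sq : IsPullback v (fst G H ≫ π) P δ := by
    refine IsPullback.mk' ?_ (fun T p q h1 h2 => ?_) (fun T p q h => ?_)
    · apply CartesianMonoidalCategory.hom_ext
      · rw [Category.assoc, Category.assoc, tensorHom_fst, lift_fst, Category.comp_id, reassoc_of% hvf]
      · rw [Category.assoc, Category.assoc, tensorHom_snd, lift_snd, Category.comp_id, reassoc_of% hvs]
        exact hpb.w.symm
    · refine hpb.hom_ext ?_ ?_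
      · rw [← hvf, ← Category.assoc, h1, Category.assoc]
      · rw [← hvs, ← Category.assoc, h1, Category.assoc]
    · have h1 := congrArg (· ≫ fst X X) h
      have h2 := congrArg (· ≫ snd X X) h
      simp only [P, δ, Category.assoc, tensorHom_fst, tensorHom_snd, lift_fst, lift_snd, Category.comp_id] at h1 h2
      refine ⟨hpb.lift (p ≫ fst G G) (p ≫ snd G G) (by rw [Category.assoc, Category.assoc]; exact h1.trans h2.symm), ?_, ?_⟩
      · apply CartesianMonoidalCategory.hom_ext
        · rw [Category.assoc, hvf]; exact hpb.lift_fst _ _ _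
        · rw [Category.assoc, hvs]; exact hpb.lift_snd _ _ _
      · rw [hpb.lift_fst_assoc, Category.assoc]; exact h1
  haveI : IsClosedImmersion δ.left :=
    MorphismProperty.of_isPullback_of_descendsAlong (P := @IsClosedImmersion)
      (Q := @Surjective ⊓ @Flat ⊓ @QuasiCompact) (sq.map (Over.forget _)) ⟨⟨‹_›, ‹_›⟩, ‹_›⟩
      ‹IsClosedImmersion v.left›
  exact ⟨‹IsClosedImmersion δ.left›⟩

variable [IsAlgClosed k]
variable {G H : Over (Spec (CommRingCat.of k))} [GrpObj G] [GrpObj H] {i : H ⟶ G} [IsMonHom i]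
  (c : GModLib.Coords G H i)

open GModLib (SG rt lt apply_rt apply_lt ext_pt)

theorem comul_inv {a : c.C} (ha : a ∈ GModLib.Inv (SG c.π)) :
    Algebra.TensorProduct.map (AlgHom.id k c.C) (c.π : c.C →ₐ[k] c.D) (CoalgebraStruct.comul (R := k) a) =
      a ⊗ₜ[k] (1 : c.D) := by
  obtain ⟨f, rfl⟩ := (GModLib.fnC_bijective c.e).2 a
  have hf := (c.rTransInv_iff_mem f).2 ha
  rw [GModLib.rTransInv_iff] at hf
  let L : c.C →ₐ[k] c.C ⊗[k] c.D := Algebra.TensorProduct.includeLeft
  let R : c.D →ₐ[k] c.C ⊗[k] c.D := Algebra.TensorProduct.includeRight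
  have h1 := hf _ (GModLib.pnt c.e L) (GModLib.pnt c.e' R)
  rw [c.comp, ← GModLib.pnt_mul, GModLib.val_pnt, GModLib.val_pnt] at h1
  refine Eq.trans ?_ h1
  show _ = (toConv L * toConv (R.comp (c.π : c.C →ₐ[k] c.D))) (GModLib.fnC c.e f)
  rw [AlgHom.convMul_apply]
  generalize CoalgebraStruct.comul (R := k) (GModLib.fnC c.e f) = t
  induction t using TensorProduct.induction_on with
  | zero => simp
  | tmul x y => simp [L, R]
  | add x y hx hy => simp only [map_add, hx, hy]

theorem apply_mul_inv {B : Type u} [CommRing B] [Algebra k B] {a : c.C} (ha : a ∈ GModLib.Inv (SG c.π))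
    (φ : c.C →ₐ[k] B) (ψ : c.D →ₐ[k] B) :
    (toConv φ * toConv (ψ.comp (c.π : c.C →ₐ[k] c.D))) a = φ a := by
  have h := congrArg (Algebra.TensorProduct.lift φ ψ fun _ _ => Commute.all _ _) (comul_inv c ha)
  rw [Algebra.TensorProduct.lift_tmul, map_one, _root_.mul_one] at h
  rw [← h, AlgHom.convMul_apply]
  generalize CoalgebraStruct.comul (R := k) a = t
  induction t using TensorProduct.induction_on with
  | zero => simp
  | tmul x y => simp
  | add x y hx hy => simp only [map_add, hx, hy]

theorem fixedSubalgebra_eq (hρ : (GModLib.res (GModLib.ofComod c.e c.C) i).IsMult) :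
    (GModLib.res (GModLib.ofComod c.e c.C) i).fixedSubalgebra hρ (𝟙 H) = GModLib.Inv (SG c.π) := by
  refine le_antisymm (fun a ha => ?_) fun a ha => ?_
  · rintro _ ⟨ψ, rfl⟩
    have h1 := ha k (GModLib.pnt c.e' ψ.ofConv)
    rw [Category.comp_id] at h1
    change (GModLib.ofComod c.e c.C).ρ k (GModLib.pnt c.e' ψ.ofConv ≫ i) _ = _ at h1
    rw [c.comp] at h1
    have h2 := congrArg (TensorProduct.lid k c.C) h1
    rw [GModLib.lid_ofComod, RedLR.ptAct_eq_act, GModLib.act_eq_rt, TensorProduct.lid_tmul, one_smul] at h2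
    exact h2
  · intro B _ _ h
    obtain ⟨φ, rfl⟩ := GModLib.exists_eq_pnt c.e' h
    rw [Category.comp_id]
    show (GModLib.ofComod c.e c.C).ρ B (GModLib.pnt c.e' φ ≫ i) ((1 : B) ⊗ₜ[k] a) = _
    rw [c.comp, GModLib.ofComod_pnt, AlgHom.comp_toLinearMap, LinearMap.lTensor_comp_apply]
    rw [show (c.π : c.C →ₐ[k] c.D).toLinearMap.lTensor c.C (HopfRep.Comod.coact (k := k) (A := c.C) a) =
      a ⊗ₜ[k] (1 : c.D) from comul_inv c ha]
    simp

theorem finiteType_inv (hH : VecGrp.IsReductiveGrp k H) (thmA : VecGrp.ReductiveInvariantsFG k) :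
    ∃ s : Finset c.C, (↑s : Set c.C) ⊆ GModLib.Inv (SG c.π) ∧ GModLib.Inv (SG c.π) ≤ Algebra.adjoin k (↑s : Set c.C) := by
  have hρ := GModLib.isMult_res (GModLib.ofComod c.e c.C) (GModLib.isMult_regular c.e) i
  obtain ⟨s, hs, hs'⟩ := thmA H hH c.C (GModLib.res (GModLib.ofComod c.e c.C) i) hρ inferInstance
  rw [← fixedSubalgebra_eq c hρ]
  exact ⟨s, hs, hs'⟩

include c in
theorem subringFGOver (hH : VecGrp.IsReductiveGrp k H) (thmA : VecGrp.ReductiveInvariantsFG k) :
    AGF.SubringFGOver k G (AGF.rTransInv i) := by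
  classical
  obtain ⟨s, hs, hs'⟩ := finiteType_inv c hH thmA
  have hbij := GModLib.fnC_bijective c.e
  choose pre hpre using hbij.2
  refine ⟨s.image pre, ?_, fun f hf => ?_⟩
  · rw [Finset.coe_image]
    rintro _ ⟨a, ha, rfl⟩
    refine (c.rTransInv_iff_mem _).2 ?_
    rw [hpre]
    exact hs ha
  · have h1 : GModLib.fnC c.e f ∈ Algebra.adjoin k (↑s : Set c.C) := hs' ((c.rTransInv_iff_mem f).1 hf)
    have hconst : ∀ x : k, GModLib.fnC c.e (G.hom.appTop ((Scheme.ΓSpecIso (CommRingCat.of k)).inv x)) =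
        algebraMap k c.C x := fun x => by
      have h2 : c.e.hom.left ≫ G.hom = Spec.map (CommRingCat.ofHom (algebraMap k c.C)) := Over.w c.e.hom
      show (Scheme.ΓSpecIso (CommRingCat.of c.C)).hom (c.e.hom.left.appTop (G.hom.appTop _)) = _
      rw [← GmPts.appTop_comp_apply, h2]
      refine (congr($(Scheme.ΓSpecIso_naturality (CommRingCat.ofHom (algebraMap k c.C))) _)).trans ?_
      exact congrArg (algebraMap k c.C) congr($((Scheme.ΓSpecIso (CommRingCat.of k)).inv_hom_id) x)
    let T : Subring Γ(G.left, ⊤) := Subring.closure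
      (Set.range (fun c : k => G.hom.appTop ((Scheme.ΓSpecIso (CommRingCat.of k)).inv c)) ∪ ↑(s.image pre))
    have h3 : (Algebra.adjoin k (↑s : Set c.C)).toSubring ≤ T.map (GModLib.fnC c.e) := by
      rw [Algebra.adjoin_eq_ring_closure, Subring.closure_le]
      rintro _ (⟨x, rfl⟩ | hx)
      · exact ⟨_, Subring.subset_closure (Or.inl ⟨x, rfl⟩), hconst x⟩
      · exact ⟨_, Subring.subset_closure (Or.inr (Finset.mem_coe.2 (Finset.mem_image_of_mem pre hx))), hpre _⟩
    obtain ⟨f', hf', hff'⟩ := h3 h1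
    rw [← hbij.1 hff']
    exact hf'

theorem pt_eq_of_inv (hH : VecGrp.IsReductiveGrp k H) (thm : AGF.ReductiveQuotSeparates k)
    (g₁ g₂ : WithConv (c.C →ₐ[k] k)) (h : ∀ a ∈ GModLib.Inv (SG c.π), g₁.ofConv a = g₂.ofConv a) :
    g₁⁻¹ * g₂ ∈ SG c.π := by
  refine (c.obs_iff.1 (c.obs_of_separates hH thm)) _ fun a ha => ext_pt fun (x : WithConv (c.C →ₐ[k] k)) => ?_
  rw [apply_rt]
  have hl : lt (x * g₁⁻¹) a ∈ GModLib.Inv (SG c.π) := fun y hy => by
    rw [GModLib.rt_lt_comm, ha y hy]
  have h1 := h _ hl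
  rw [apply_lt, apply_lt, inv_mul_cancel_right] at h1
  rw [h1, _root_.mul_assoc x g₁⁻¹ g₂]

include c in
/-- **the quotient is affine** -/
theorem isAffine_quot [IsAffine G.left] [Smooth G.hom] [IsClosedImmersion i.left] (hH : VecGrp.IsReductiveGrp k H)
    (thmA : VecGrp.ReductiveInvariantsFG k) (thmAbi : AGF.ReductiveQuotSurj k) (thmAbiv : AGF.ReductiveQuotSeparates k)
    {X : Over (Spec (CommRingCat.of k))} (a : AlgGrp.Action G X) (o : 𝟙_ (Over (Spec (CommRingCat.of k))) ⟶ X)
    (hX : AGF.IsQuotient i X a o) : IsAffine X.left := by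
  classical
  obtain ⟨hlft, hflat, hsurj, hpb⟩ := hX
  haveI := hlft; haveI := hflat; haveI := hsurj
  haveI : IsLocallyNoetherian X.left := LocallyOfFiniteType.isLocallyNoetherian X.hom
  haveI : IsAffineHom G.hom := isAffineHom_of_isAffine _
  haveI : QuasiCompact (a.orbitMap o).left := by
    haveI : QuasiCompact ((a.orbitMap o).left ≫ X.hom) := by rw [Over.w]; infer_instance
    exact QuasiCompact.of_comp (a.orbitMap o).left X.hom
  haveI : IsSeparated X.hom := isSeparated_quot i a o hpb
  haveI : CompactSpace X.left :=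
    ⟨by rw [← (a.orbitMap o).left.surjective.range_eq]; exact isCompact_range (a.orbitMap o).left.continuous⟩
  haveI : QuasiCompact X.hom := by rw [quasiCompact_iff_compactSpace]; infer_instance
  -- the invariants
  let A : Subalgebra k c.C := GModLib.Inv (SG c.π)
  obtain ⟨s, hs, hs'⟩ := finiteType_inv c hH thmA
  haveI : Algebra.FiniteType k A := (Subalgebra.fg_iff_finiteType _).1
    ⟨s, le_antisymm (Algebra.adjoin_le hs) hs'⟩
  haveI : IsNoetherianRing A := Algebra.FiniteType.isNoetherianRing k A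
  let Z : Over (Spec (CommRingCat.of k)) := VecGrp.pt k A
  haveI : IsAffine Z.left := inferInstanceAs (IsAffine (Spec (CommRingCat.of A)))
  haveI : LocallyOfFiniteType Z.hom :=
    (HasRingHomProperty.Spec_iff (P := @LocallyOfFiniteType)).2 (RingHom.finiteType_algebraMap.2 inferInstance)
  haveI : JacobsonSpace Z.left := LocallyOfFiniteType.jacobsonSpace Z.hom
  haveI : JacobsonSpace X.left := LocallyOfFiniteType.jacobsonSpace X.hom
  let c₀ : G ⟶ Z := c.e.inv ≫ VecGrp.ptMap A.val
  haveI : IsIso c.e.inv.left := inferInstanceAs (IsIso ((Over.forget _).map c.e.inv))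
  haveI : Surjective c₀.left := by
    haveI : Surjective (VecGrp.ptMap A.val).left := by
      refine ⟨fun q => ?_⟩
      have hρ := GModLib.isMult_res (GModLib.ofComod c.e c.C) (GModLib.isMult_regular c.e) i
      obtain ⟨p, hp, hpq⟩ : ∃ p : Ideal c.C, p.IsPrime ∧ p.comap A.val = (q : PrimeSpectrum A).asIdeal := by
        have := thmAbi H hH c.C (GModLib.res (GModLib.ofComod c.e c.C) i) hρ inferInstance
        have key : ∀ A' : Subalgebra k c.C, A' = A →
            (∀ q : Ideal A', q.IsPrime → ∃ p : Ideal c.C, p.IsPrime ∧ p.comap A'.val = q) →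
            ∀ q : Ideal A, q.IsPrime → ∃ p : Ideal c.C, p.IsPrime ∧ p.comap A.val = q := by
          rintro _ rfl h
          exact h
        exact key _ (fixedSubalgebra_eq c hρ) this _ (q : PrimeSpectrum A).isPrime
      exact ⟨(⟨p, hp⟩ : PrimeSpectrum c.C), PrimeSpectrum.ext hpq⟩
    rw [Over.comp_left]; infer_instance
  -- the map from the quotient
  obtain ⟨d, hd⟩ := WeilAff.exists_desc_of_points (a.orbitMap o) c₀ fun B _ _ g g' hgg => by
    obtain ⟨φ, rfl⟩ := GModLib.exists_eq_pnt c.e g
    obtain ⟨φ', rfl⟩ := GModLib.exists_eq_pnt c.e g'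
    let l := hpb.lift (GModLib.pnt c.e φ) (GModLib.pnt c.e φ') hgg
    obtain ⟨ψ, hψ⟩ := GModLib.exists_eq_pnt c.e' (l ≫ snd G H)
    have hl : GModLib.pnt c.e φ' = GModLib.pnt c.e φ * GModLib.pnt c.e (ψ.comp (c.π : c.C →ₐ[k] c.D)) := by
      rw [← c.comp, hψ, Hom.mul_def, ← lift_whiskerLeft_assoc]
      conv_lhs => rw [← hpb.lift_snd (GModLib.pnt c.e φ) (GModLib.pnt c.e φ') hgg]
      congr 1
      apply CartesianMonoidalCategory.hom_ext
      · rw [lift_fst]; exact hpb.lift_fst _ _ _
      · rw [lift_snd]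
    have hφ' : φ' = (toConv φ * toConv (ψ.comp (c.π : c.C →ₐ[k] c.D))).ofConv :=
      GModLib.pnt_injective c.e (hl.trans (GModLib.pnt_mul c.e _ _).symm)
    refine Over.OverMorphism.ext ?_
    show (Spec.map (CommRingCat.ofHom φ.toRingHom) ≫ c.e.hom.left) ≫ c.e.inv.left ≫
        Spec.map (CommRingCat.ofHom A.val.toRingHom) =
      (Spec.map (CommRingCat.ofHom φ'.toRingHom) ≫ c.e.hom.left) ≫ c.e.inv.left ≫
        Spec.map (CommRingCat.ofHom A.val.toRingHom)
    simp only [Category.assoc]
    rw [← Over.comp_left_assoc, Iso.hom_inv_id, Over.id_left, Category.id_comp, ← Spec.map_comp, ← Spec.map_comp]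
    congr 1
    ext x
    show φ (x : c.C) = φ' (x : c.C)
    rw [hφ']
    exact (apply_mul_inv c x.2 φ ψ).symm
  let f : X ⟶ Z := Over.homMk d (by
    rw [← cancel_epi (a.orbitMap o).left, reassoc_of% hd, Over.w c₀, Over.w])
  have hf : a.orbitMap o ≫ f = c₀ := Over.OverMorphism.ext hd
  haveI : LocallyOfFiniteType f.left := by
    haveI : LocallyOfFiniteType (f.left ≫ Z.hom) := by rw [Over.w]; infer_instance
    exact locallyOfFiniteType_of_comp f.left Z.hom
  haveI : IsSeparated f.left := by
    haveI : IsSeparated (f.left ≫ Z.hom) := by rw [Over.w]; infer_instance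
    exact IsSeparated.of_comp f.left Z.hom
  haveI : IsAffineHom Z.hom := isAffineHom_of_isAffine _
  haveI : QuasiCompact f.left := by
    haveI : QuasiCompact (f.left ≫ Z.hom) := by rw [Over.w]; infer_instance
    exact QuasiCompact.of_comp f.left Z.hom
  -- injective on rational points
  have hinj : ∀ x y : VecGrp.pt k k ⟶ X, x ≫ f = y ≫ f → x = y := by
    haveI : LocallyOfFiniteType (a.orbitMap o).left := by
      haveI : LocallyOfFiniteType ((a.orbitMap o).left ≫ X.hom) := by rw [Over.w]; infer_instance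
      exact locallyOfFiniteType_of_comp (a.orbitMap o).left X.hom
    intro x y hxy
    obtain ⟨g₁, rfl⟩ := WeilAff.exists_point_lift (a.orbitMap o) x
    obtain ⟨g₂, rfl⟩ := WeilAff.exists_point_lift (a.orbitMap o) y
    obtain ⟨φ₁, rfl⟩ := GModLib.exists_eq_pnt c.e g₁
    obtain ⟨φ₂, rfl⟩ := GModLib.exists_eq_pnt c.e g₂
    rw [Category.assoc, Category.assoc, hf] at hxy
    have h1 : ∀ z ∈ A, φ₁ z = φ₂ z := by
      intro z hz
      have h0 := congrArg CommaMorphism.left hxy
      change (Spec.map (CommRingCat.ofHom φ₁.toRingHom) ≫ c.e.hom.left) ≫ c.e.inv.left ≫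
          Spec.map (CommRingCat.ofHom A.val.toRingHom) =
        (Spec.map (CommRingCat.ofHom φ₂.toRingHom) ≫ c.e.hom.left) ≫ c.e.inv.left ≫
          Spec.map (CommRingCat.ofHom A.val.toRingHom) at h0
      simp only [Category.assoc] at h0
      rw [← Over.comp_left_assoc, Iso.hom_inv_id, Over.id_left, Category.id_comp, ← Spec.map_comp, ← Spec.map_comp] at h0
      exact congr($(Spec.map_injective h0).hom ⟨z, hz⟩)
    obtain ⟨ψ, hψ⟩ := pt_eq_of_inv c hH thmAbiv (toConv φ₁) (toConv φ₂) h1
    have h2 : GModLib.pnt c.e φ₂ = GModLib.pnt c.e φ₁ * (GModLib.pnt c.e' ψ.ofConv ≫ i) := by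
      rw [c.comp, ← GModLib.pnt_mul]
      congr 1
      have : toConv φ₂ = toConv φ₁ * toConv (ψ.ofConv.comp (c.π : c.C →ₐ[k] c.D)) := by
        have e := congrArg (toConv φ₁ * ·) hψ
        simp only [mul_inv_cancel_left] at e
        exact e.symm
      exact congrArg WithConv.ofConv this
    have h3 := congrArg (CartesianMonoidalCategory.lift (GModLib.pnt c.e φ₁) (GModLib.pnt c.e' ψ.ofConv) ≫ ·) hpb.w
    simp only [lift_fst_assoc, Category.assoc, lift_whiskerLeft_assoc] at h3
    rw [← Category.assoc (CartesianMonoidalCategory.lift _ _), ← Hom.mul_def, ← h2] at h3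
    exact h3
  -- quasi-finite
  haveI : LocallyQuasiFinite f.left := by
    refine LimDesc.locallyQuasiFinite_of_forall_quasiFiniteAt f.left fun x => ?_
    show x ∈ f.left.quasiFiniteLocus
    by_contra hx
    obtain ⟨z, hz, hzc⟩ := nonempty_inter_closedPoints (Z := ((f.left.quasiFiniteLocus : Set X.left))ᶜ) ⟨x, hx⟩
      f.left.quasiFiniteLocus.2.isClosed_compl.isLocallyClosed
    refine hz ?_
    show f.left.QuasiFiniteAt z
    have hfz : IsClosed ({f.left z} : Set Z.left) := by
      have := f.left.closePoints_subset_preimage_closedPoints hzc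
      exact this
    have hfib : (f.left ⁻¹' {f.left z}) = {z} := by
      refine Set.Subset.antisymm (fun w hw => ?_) (by simp)
      have hcl : IsClosed (f.left ⁻¹' {f.left z}) := hfz.preimage f.left.continuous
      have hsub : closedPoints X.left ∩ f.left ⁻¹' {f.left z} ⊆ {z} := by
        rintro w ⟨hwc, hw⟩
        obtain ⟨px, hpx⟩ := (pointEquivClosedPoint X.hom).surjective ⟨w, hwc⟩
        obtain ⟨py, hpy⟩ := (pointEquivClosedPoint X.hom).surjective ⟨z, hzc⟩
        have e1 : Spec.map (CommRingCat.ofHom (algebraMap k k)) = 𝟙 (Spec (CommRingCat.of k)) := by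
          rw [Algebra.algebraMap_self, CommRingCat.ofHom_id, Spec.map_id]
        let xx : VecGrp.pt k k ⟶ X := Over.homMk px.1 (px.2.trans e1.symm)
        let yy : VecGrp.pt k k ⟶ X := Over.homMk py.1 (py.2.trans e1.symm)
        have hxy : xx ≫ f = yy ≫ f := by
          refine Over.OverMorphism.ext ?_
          show px.1 ≫ f.left = py.1 ≫ f.left
          refine ext_of_apply_closedPoint_eq Z.hom ?_ ?_ ?_
          · rw [Category.assoc, Over.w]; exact px.2
          · rw [Category.assoc, Over.w]; exact py.2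
          · rw [Scheme.Hom.comp_apply, Scheme.Hom.comp_apply]
            have hw1 : px.1 (IsLocalRing.closedPoint k) = w := congrArg Subtype.val hpx
            have hz1 : py.1 (IsLocalRing.closedPoint k) = z := congrArg Subtype.val hpy
            rw [hw1, hz1]
            exact hw
        have h4 := congrArg CommaMorphism.left (hinj xx yy hxy)
        change px.1 = py.1 at h4
        have hw1 : px.1 (IsLocalRing.closedPoint k) = w := congrArg Subtype.val hpx
        have hz1 : py.1 (IsLocalRing.closedPoint k) = z := congrArg Subtype.val hpy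
        rw [Set.mem_singleton_iff, ← hw1, h4, hz1]
      have h5 : f.left ⁻¹' {f.left z} ⊆ closure {z} := by
        refine subset_closure.trans ?_
        rw [← JacobsonSpace.closure_inter_closedPoints_eq_closure hcl.isLocallyClosed]
        exact closure_mono (fun w hw => hsub ⟨hw.2, hw.1⟩)
      have h6 := h5 hw
      rwa [IsClosed.closure_eq (show IsClosed ({z} : Set X.left) from hzc)] at h6
    rw [Scheme.Hom.quasiFiniteAt_iff_isOpen_singleton_asFiber]
    haveI : Subsingleton (f.left.fiber (f.left z)) := by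
      have : Subsingleton ↥(f.left ⁻¹' {f.left z}) := by rw [hfib]; infer_instance
      exact (f.left.fiberHomeo (f.left z)).injective.subsingleton
    exact isOpen_discrete _
  -- quasi-affine
  haveI : IsAffine f.left.normalization := isAffine_of_isAffineHom f.left.fromNormalization
  haveI : X.left.IsQuasiAffine := Scheme.IsQuasiAffine.of_isImmersion f.left.toNormalization
  -- all invariant functions come from the base
  have hbij : Function.Bijective f.left.appTop := by
    have hπinj := AlgSpLib.appTop_injective_of_flat_surjective (a.orbitMap o).left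
    let ev : Γ(Z.left, ⊤) →+* A := (Scheme.ΓSpecIso (CommRingCat.of A)).hom.hom
    have hev : Function.Bijective ev := ConcreteCategory.bijective_of_isIso (Scheme.ΓSpecIso (CommRingCat.of A)).hom
    have key : ∀ z, GModLib.fnC c.e ((a.orbitMap o).left.appTop (f.left.appTop z)) = (ev z : c.C) := fun z => by
      rw [← GmPts.appTop_comp_apply, ← Over.comp_left, hf]
      show (Scheme.ΓSpecIso (CommRingCat.of c.C)).hom (c.e.hom.left.appTop (c₀.left.appTop z)) = _
      rw [← GmPts.appTop_comp_apply, ← Over.comp_left]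
      simp only [c₀, Iso.hom_inv_id_assoc]
      exact congr($(Scheme.ΓSpecIso_naturality (CommRingCat.ofHom A.val.toRingHom)) z)
    refine ⟨fun z z' h => hev.1 (Subtype.ext ?_), fun g => ?_⟩
    · rw [← key, ← key, h]
    · have hg : GModLib.fnC c.e ((a.orbitMap o).left.appTop g) ∈ A := by
        refine (c.rTransInv_iff_mem _).1 ?_
        show _ = _
        rw [← GmPts.appTop_comp_apply, ← GmPts.appTop_comp_apply, ← Over.comp_left, ← Over.comp_left, hpb.w]
      obtain ⟨z, hz⟩ := hev.2 ⟨_, hg⟩
      refine ⟨z, hπinj ((GModLib.fnC_bijective c.e).1 ?_)⟩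
      rw [key, hz]
  haveI : IsIso f.left.appTop := (ConcreteCategory.isIso_iff_bijective f.left.appTop).2 hbij
  haveI : Surjective X.left.toSpecΓ := by
    refine ⟨fun q => ?_⟩
    obtain ⟨g, hg⟩ := c₀.left.surjective (Z.left.isoSpec.inv ((Spec.map f.left.appTop) q))
    refine ⟨(a.orbitMap o).left g, (Spec.map f.left.appTop).homeomorph.injective ?_⟩
    show (X.left.toSpecΓ ≫ Spec.map f.left.appTop) _ = Spec.map f.left.appTop q
    have hfg : f.left ((a.orbitMap o).left g) = c₀.left g := by rw [← hf]; rfl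
    rw [← Scheme.toSpecΓ_naturality, Scheme.Hom.comp_apply, hfg, hg]
    exact congr($(Z.left.isoSpec.inv_hom_id) _)
  haveI : Epi X.left.toSpecΓ.base := (TopCat.epi_iff_surjective _).2 X.left.toSpecΓ.surjective
  haveI : IsIso X.left.toSpecΓ := IsOpenImmersion.isIso X.left.toSpecΓ
  exact IsAffine.of_isIso X.left.toSpecΓ

end Groth.Agent.RedQuotAff
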