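import Groth.Agent.RedQuotAff.Main
import Mathlib.RingTheory.Finiteness.Finsupp

/-!
Observable subgroups have quasi-affine quotients, and conversely.
-/

set_option autoImplicit false
set_option backward.isDefEq.respectTransparency false
set_option maxHeartbeats 1000000
set_option synthInstance.maxHeartbeats 200000
set_option linter.unusedSectionVars false
set_option linter.style.haveILetI false

universe u

open CategoryTheory CategoryTheory.Limits MonoidalCategory CartesianMonoidalCategory MonObj GrpObj AlgebraicGeometry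
open TensorProduct WithConv

noncomputable section

namespace Groth.Agent.RedQuotAff

variable {k : Type u} [Field k]

/-- quasi-affine quotients come from observable subgroups -/
theorem isObservableIn_of_isQuasiAffine {G H X : Over (Spec (CommRingCat.of k))} [GrpObj G] [GrpObj H]
    (i : H ⟶ G) [X.left.IsQuasiAffine] (a : AlgGrp.Action G X) (o : 𝟙_ (Over (Spec (CommRingCat.of k))) ⟶ X)
    (hpb : IsPullback (fst G H) ((G ◁ i) ≫ μ[G]) (a.orbitMap o) (a.orbitMap o)) :
    AGF.IsObservableIn k i := by
  intro g hg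
  have e : ((1 : VecGrp.pt k k ⟶ G) ≫ a.orbitMap o).left = (g ≫ a.orbitMap o).left := by
    rw [← cancel_mono X.left.toSpecΓ, Scheme.toSpecΓ_naturality, Scheme.toSpecΓ_naturality]
    congr 2
    ext F
    have hf : AGF.IsRTransInv i ((a.orbitMap o).left.appTop F) := by
      show _ = _
      rw [← GmPts.appTop_comp_apply, ← GmPts.appTop_comp_apply, ← Over.comp_left, ← Over.comp_left, hpb.w]
    have h1 := congrArg (CartesianMonoidalCategory.lift (1 : VecGrp.pt k k ⟶ G) (𝟙 _)).left.appTop (hg _ hf)
    rw [← GmPts.appTop_comp_apply, ← GmPts.appTop_comp_apply, ← GmPts.appTop_comp_apply, ← GmPts.appTop_comp_apply,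
      ← Over.comp_left, ← Over.comp_left, ← Over.comp_left, ← Over.comp_left, lift_whiskerLeft_assoc, Category.id_comp,
      ← Hom.mul_def, _root_.one_mul, lift_fst] at h1
    exact h1.symm
  obtain ⟨h, hh⟩ : ∃ h : VecGrp.pt k k ⟶ H, g = 1 * (h ≫ i) := by
    refine ⟨hpb.lift _ g (Over.OverMorphism.ext e) ≫ snd G H, ?_⟩
    have e1 : CartesianMonoidalCategory.lift (1 : VecGrp.pt k k ⟶ G) (hpb.lift _ g (Over.OverMorphism.ext e) ≫ snd G H) =
        hpb.lift _ g (Over.OverMorphism.ext e) := by
      apply CartesianMonoidalCategory.hom_ext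
      · rw [lift_fst, hpb.lift_fst]
      · rw [lift_snd]
    rw [Hom.mul_def, ← lift_whiskerLeft_assoc, e1, hpb.lift_snd]
  exact ⟨h, by rw [hh, _root_.one_mul]⟩

variable [IsAlgClosed k]
variable {G H : Over (Spec (CommRingCat.of k))} [GrpObj G] [GrpObj H] {i : H ⟶ G} [IsMonHom i]
  (c : GModLib.Coords G H i)

open GModLib (SG rt lt apply_rt apply_lt ext_pt)

/-- finitely many invariants separate the cosets of an observable subgroup -/
theorem exists_separating [Smooth G.hom] (hobs : AGF.IsObservableIn k i) :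
    ∃ s : Finset c.C, (↑s : Set c.C) ⊆ GModLib.Inv (SG c.π) ∧
      ∀ g₁ g₂ : WithConv (c.C →ₐ[k] k), (∀ a ∈ s, g₁.ofConv a = g₂.ofConv a) → g₁⁻¹ * g₂ ∈ SG c.π := by
  classical
  haveI : Algebra.FiniteType k c.C := GModLib.finiteType_of_smooth c.e
  haveI : Algebra.FiniteType k (c.C ⊗[k] c.C) :=
    Algebra.FiniteType.trans (R := k) (S := c.C) (A := c.C ⊗[k] c.C) inferInstance inferInstance
  haveI : IsNoetherianRing (c.C ⊗[k] c.C) :=
    Algebra.FiniteType.isNoetherianRing k (c.C ⊗[k] c.C)
  let δ : c.C → c.C ⊗[k] c.C := fun a => a ⊗ₜ[k] 1 - 1 ⊗ₜ[k] a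
  obtain ⟨t, ht, hspan⟩ := (Submodule.fg_span_iff_fg_span_finset_subset (δ '' (GModLib.Inv (SG c.π) : Set c.C))).1
    (IsNoetherian.noetherian (Submodule.span (c.C ⊗[k] c.C) (δ '' (GModLib.Inv (SG c.π) : Set c.C))))
  choose pre hpre hpre' using fun x : t => ht x.2
  refine ⟨Finset.univ.image pre, fun x hx => ?_, fun g₁ g₂ h => ?_⟩
  · simp only [Finset.coe_image, Set.mem_image] at hx
    obtain ⟨x, -, rfl⟩ := hx
    exact hpre x
  · refine (c.obs_iff.1 hobs) _ fun a ha => ext_pt fun (x : WithConv (c.C →ₐ[k] k)) => ?_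
    rw [apply_rt]
    have hl : lt (x * g₁⁻¹) a ∈ GModLib.Inv (SG c.π) := fun y hy => by rw [GModLib.rt_lt_comm, ha y hy]
    let P : c.C ⊗[k] c.C →ₐ[k] k := Algebra.TensorProduct.lift g₁.ofConv g₂.ofConv fun _ _ => Commute.all _ _
    have hle : Submodule.span (c.C ⊗[k] c.C) (↑t : Set (c.C ⊗[k] c.C)) ≤ RingHom.ker P := by
      refine Submodule.span_le.2 fun x hx => ?_
      show P x = 0
      refine (congrArg P (hpre' ⟨x, hx⟩).symm).trans ?_
      simp [δ, P, h _ (Finset.mem_image_of_mem pre (Finset.mem_univ ⟨x, hx⟩))]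
    have h1 : P (δ (lt (x * g₁⁻¹) a)) = 0 := hle (hspan ▸ Submodule.subset_span ⟨_, hl, rfl⟩)
    simp only [δ, P, map_sub, Algebra.TensorProduct.lift_tmul, map_one, _root_.mul_one, _root_.one_mul, sub_eq_zero] at h1
    rw [apply_lt, apply_lt, inv_mul_cancel_right] at h1
    rw [h1, _root_.mul_assoc x g₁⁻¹ g₂]

include c in
/-- **observable quotients are quasi-affine** -/
theorem isQuasiAffine_quot [IsAffine G.left] [Smooth G.hom] [IsClosedImmersion i.left]
    (hobs : AGF.IsObservableIn k i)
    {X : Over (Spec (CommRingCat.of k))} (a : AlgGrp.Action G X) (o : 𝟙_ (Over (Spec (CommRingCat.of k))) ⟶ X)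
    (hX : AGF.IsQuotient i X a o) : X.left.IsQuasiAffine := by
  classical
  obtain ⟨hlft, hflat, hsurj, hpb⟩ := hX
  haveI := hlft; haveI := hflat; haveI := hsurj
  haveI : IsLocallyNoetherian X.left := LocallyOfFiniteType.isLocallyNoetherian X.hom
  haveI : IsAffineHom G.hom := isAffineHom_of_isAffine _
  haveI : QuasiCompact (a.orbitMap o).left := by
    haveI : QuasiCompact ((a.orbitMap o).left ≫ X.hom) := by rw [Over.w]; infer_instance
    exact QuasiCompact.of_comp (a.orbitMap o).left X.hom
  haveI : IsSeparated X.hom := isSeparated_quot i a o hpb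
  haveI : CompactSpace X.left :=
    ⟨by rw [← (a.orbitMap o).left.surjective.range_eq]; exact isCompact_range (a.orbitMap o).left.continuous⟩
  haveI : QuasiCompact X.hom := by rw [quasiCompact_iff_compactSpace]; infer_instance
  -- finitely many separating invariants
  obtain ⟨s, hs, hsep⟩ := exists_separating c hobs
  let A : Subalgebra k c.C := Algebra.adjoin k (↑s : Set c.C)
  have hA : A ≤ GModLib.Inv (SG c.π) := Algebra.adjoin_le hs
  haveI : Algebra.FiniteType k A := (Subalgebra.fg_iff_finiteType _).1 ⟨s, rfl⟩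
  haveI : IsNoetherianRing A := Algebra.FiniteType.isNoetherianRing k A
  let Z : Over (Spec (CommRingCat.of k)) := VecGrp.pt k A
  haveI : IsAffine Z.left := inferInstanceAs (IsAffine (Spec (CommRingCat.of A)))
  haveI : LocallyOfFiniteType Z.hom :=
    (HasRingHomProperty.Spec_iff (P := @LocallyOfFiniteType)).2 (RingHom.finiteType_algebraMap.2 inferInstance)
  haveI : JacobsonSpace Z.left := LocallyOfFiniteType.jacobsonSpace Z.hom
  haveI : JacobsonSpace X.left := LocallyOfFiniteType.jacobsonSpace X.hom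
  let c₀ : G ⟶ Z := c.e.inv ≫ VecGrp.ptMap A.val
  haveI : IsIso c.e.inv.left := inferInstanceAs (IsIso ((Over.forget _).map c.e.inv))
  -- the map from the quotient
  obtain ⟨d, hd⟩ := WeilAff.exists_desc_of_points (a.orbitMap o) c₀ fun B _ _ g g' hgg => by
    obtain ⟨φ, rfl⟩ := GModLib.exists_eq_pnt c.e g
    obtain ⟨φ', rfl⟩ := GModLib.exists_eq_pnt c.e g'
    let l := hpb.lift (GModLib.pnt c.e φ) (GModLib.pnt c.e φ') hgg
    obtain ⟨ψ, hψ⟩ := GModLib.exists_eq_pnt c.e' (l ≫ snd G H)
    have hl : GModLib.pnt c.e φ' = GModLib.pnt c.e φ * GModLib.pnt c.e (ψ.comp (c.π : c.C →ₐ[k] c.D)) := by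
      rw [← c.comp, hψ, Hom.mul_def, ← lift_whiskerLeft_assoc]
      conv_lhs => rw [← hpb.lift_snd (GModLib.pnt c.e φ) (GModLib.pnt c.e φ') hgg]
      congr 1
      apply CartesianMonoidalCategory.hom_ext
      · rw [lift_fst]; exact hpb.lift_fst _ _ _
      · rw [lift_snd]
    have hφ' : φ' = (toConv φ * toConv (ψ.comp (c.π : c.C →ₐ[k] c.D))).ofConv :=
      GModLib.pnt_injective c.e (hl.trans (GModLib.pnt_mul c.e _ _).symm)
    refine Over.OverMorphism.ext ?_
    show (Spec.map (CommRingCat.ofHom φ.toRingHom) ≫ c.e.hom.left) ≫ c.e.inv.left ≫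
        Spec.map (CommRingCat.ofHom A.val.toRingHom) =
      (Spec.map (CommRingCat.ofHom φ'.toRingHom) ≫ c.e.hom.left) ≫ c.e.inv.left ≫
        Spec.map (CommRingCat.ofHom A.val.toRingHom)
    simp only [Category.assoc]
    rw [← Over.comp_left_assoc, Iso.hom_inv_id, Over.id_left, Category.id_comp, ← Spec.map_comp, ← Spec.map_comp]
    congr 1
    ext x
    show φ (x : c.C) = φ' (x : c.C)
    rw [hφ']
    exact (apply_mul_inv c (hA x.2) φ ψ).symm
  let f : X ⟶ Z := Over.homMk d (by
    rw [← cancel_epi (a.orbitMap o).left, reassoc_of% hd, Over.w c₀, Over.w])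
  have hf : a.orbitMap o ≫ f = c₀ := Over.OverMorphism.ext hd
  haveI : LocallyOfFiniteType f.left := by
    haveI : LocallyOfFiniteType (f.left ≫ Z.hom) := by rw [Over.w]; infer_instance
    exact locallyOfFiniteType_of_comp f.left Z.hom
  haveI : IsSeparated f.left := by
    haveI : IsSeparated (f.left ≫ Z.hom) := by rw [Over.w]; infer_instance
    exact IsSeparated.of_comp f.left Z.hom
  haveI : IsAffineHom Z.hom := isAffineHom_of_isAffine _
  haveI : QuasiCompact f.left := by
    haveI : QuasiCompact (f.left ≫ Z.hom) := by rw [Over.w]; infer_instance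
    exact QuasiCompact.of_comp f.left Z.hom
  -- injective on rational points
  have hinj : ∀ x y : VecGrp.pt k k ⟶ X, x ≫ f = y ≫ f → x = y := by
    haveI : LocallyOfFiniteType (a.orbitMap o).left := by
      haveI : LocallyOfFiniteType ((a.orbitMap o).left ≫ X.hom) := by rw [Over.w]; infer_instance
      exact locallyOfFiniteType_of_comp (a.orbitMap o).left X.hom
    intro x y hxy
    obtain ⟨g₁, rfl⟩ := WeilAff.exists_point_lift (a.orbitMap o) x
    obtain ⟨g₂, rfl⟩ := WeilAff.exists_point_lift (a.orbitMap o) y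
    obtain ⟨φ₁, rfl⟩ := GModLib.exists_eq_pnt c.e g₁
    obtain ⟨φ₂, rfl⟩ := GModLib.exists_eq_pnt c.e g₂
    rw [Category.assoc, Category.assoc, hf] at hxy
    have h1 : ∀ z ∈ A, φ₁ z = φ₂ z := by
      intro z hz
      have h0 := congrArg CommaMorphism.left hxy
      change (Spec.map (CommRingCat.ofHom φ₁.toRingHom) ≫ c.e.hom.left) ≫ c.e.inv.left ≫
          Spec.map (CommRingCat.ofHom A.val.toRingHom) =
        (Spec.map (CommRingCat.ofHom φ₂.toRingHom) ≫ c.e.hom.left) ≫ c.e.inv.left ≫
          Spec.map (CommRingCat.ofHom A.val.toRingHom) at h0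
      simp only [Category.assoc] at h0
      rw [← Over.comp_left_assoc, Iso.hom_inv_id, Over.id_left, Category.id_comp, ← Spec.map_comp, ← Spec.map_comp] at h0
      exact congr($(Spec.map_injective h0).hom ⟨z, hz⟩)
    obtain ⟨ψ, hψ⟩ := hsep (toConv φ₁) (toConv φ₂) fun z hz => h1 z (Algebra.subset_adjoin hz)
    have h2 : GModLib.pnt c.e φ₂ = GModLib.pnt c.e φ₁ * (GModLib.pnt c.e' ψ.ofConv ≫ i) := by
      rw [c.comp, ← GModLib.pnt_mul]
      congr 1
      have : toConv φ₂ = toConv φ₁ * toConv (ψ.ofConv.comp (c.π : c.C →ₐ[k] c.D)) := by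
        have e := congrArg (toConv φ₁ * ·) hψ
        simp only [mul_inv_cancel_left] at e
        exact e.symm
      exact congrArg WithConv.ofConv this
    have h3 := congrArg (CartesianMonoidalCategory.lift (GModLib.pnt c.e φ₁) (GModLib.pnt c.e' ψ.ofConv) ≫ ·) hpb.w
    simp only [lift_fst_assoc, Category.assoc, lift_whiskerLeft_assoc] at h3
    rw [← Category.assoc (CartesianMonoidalCategory.lift _ _), ← Hom.mul_def, ← h2] at h3
    exact h3
  -- quasi-finite
  haveI : LocallyQuasiFinite f.left := by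
    refine LimDesc.locallyQuasiFinite_of_forall_quasiFiniteAt f.left fun x => ?_
    show x ∈ f.left.quasiFiniteLocus
    by_contra hx
    obtain ⟨z, hz, hzc⟩ := nonempty_inter_closedPoints (Z := ((f.left.quasiFiniteLocus : Set X.left))ᶜ) ⟨x, hx⟩
      f.left.quasiFiniteLocus.2.isClosed_compl.isLocallyClosed
    refine hz ?_
    show f.left.QuasiFiniteAt z
    have hfz : IsClosed ({f.left z} : Set Z.left) := by
      have := f.left.closePoints_subset_preimage_closedPoints hzc
      exact this
    have hfib : (f.left ⁻¹' {f.left z}) = {z} := by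
      refine Set.Subset.antisymm (fun w hw => ?_) (by simp)
      have hcl : IsClosed (f.left ⁻¹' {f.left z}) := hfz.preimage f.left.continuous
      have hsub : closedPoints X.left ∩ f.left ⁻¹' {f.left z} ⊆ {z} := by
        rintro w ⟨hwc, hw⟩
        obtain ⟨px, hpx⟩ := (pointEquivClosedPoint X.hom).surjective ⟨w, hwc⟩
        obtain ⟨py, hpy⟩ := (pointEquivClosedPoint X.hom).surjective ⟨z, hzc⟩
        have e1 : Spec.map (CommRingCat.ofHom (algebraMap k k)) = 𝟙 (Spec (CommRingCat.of k)) := by
          rw [Algebra.algebraMap_self, CommRingCat.ofHom_id, Spec.map_id]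
        let xx : VecGrp.pt k k ⟶ X := Over.homMk px.1 (px.2.trans e1.symm)
        let yy : VecGrp.pt k k ⟶ X := Over.homMk py.1 (py.2.trans e1.symm)
        have hxy : xx ≫ f = yy ≫ f := by
          refine Over.OverMorphism.ext ?_
          show px.1 ≫ f.left = py.1 ≫ f.left
          refine ext_of_apply_closedPoint_eq Z.hom ?_ ?_ ?_
          · rw [Category.assoc, Over.w]; exact px.2
          · rw [Category.assoc, Over.w]; exact py.2
          · rw [Scheme.Hom.comp_apply, Scheme.Hom.comp_apply]
            have hw1 : px.1 (IsLocalRing.closedPoint k) = w := congrArg Subtype.val hpx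
            have hz1 : py.1 (IsLocalRing.closedPoint k) = z := congrArg Subtype.val hpy
            rw [hw1, hz1]
            exact hw
        have h4 := congrArg CommaMorphism.left (hinj xx yy hxy)
        change px.1 = py.1 at h4
        have hw1 : px.1 (IsLocalRing.closedPoint k) = w := congrArg Subtype.val hpx
        have hz1 : py.1 (IsLocalRing.closedPoint k) = z := congrArg Subtype.val hpy
        rw [Set.mem_singleton_iff, ← hw1, h4, hz1]
      have h5 : f.left ⁻¹' {f.left z} ⊆ closure {z} := by
        refine subset_closure.trans ?_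
        rw [← JacobsonSpace.closure_inter_closedPoints_eq_closure hcl.isLocallyClosed]
        exact closure_mono (fun w hw => hsub ⟨hw.2, hw.1⟩)
      have h6 := h5 hw
      rwa [IsClosed.closure_eq (show IsClosed ({z} : Set X.left) from hzc)] at h6
    rw [Scheme.Hom.quasiFiniteAt_iff_isOpen_singleton_asFiber]
    haveI : Subsingleton (f.left.fiber (f.left z)) := by
      have : Subsingleton ↥(f.left ⁻¹' {f.left z}) := by rw [hfib]; infer_instance
      exact (f.left.fiberHomeo (f.left z)).injective.subsingleton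
    exact isOpen_discrete _
  -- quasi-affine
  haveI : IsAffine f.left.normalization := isAffine_of_isAffineHom f.left.fromNormalization
  haveI : X.left.IsQuasiAffine := Scheme.IsQuasiAffine.of_isImmersion f.left.toNormalization
  infer_instance

end Groth.Agent.RedQuotAff
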